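import Groth.Agent.L21.ExtLattice.Length
import Mathlib.RingTheory.MvPowerSeries.Basic
import Mathlib.RingTheory.MvPowerSeries.Inverse
import Mathlib.RingTheory.Ideal.Quotient.Operations
import Mathlib.Algebra.Ring.GeomSum
import Mathlib.Data.Finset.Sigma
import Mathlib.Tactic.Ring
import Mathlib.Tactic.Linarith
import Mathlib.LinearAlgebra.Pi
import Mathlib.LinearAlgebra.Dimension.Constructions

/-! Colengths of powers of `(x², xy, y², xt, yt², t⁴)` in `k[[x,y,t]]/(x² - yⁿ)`. -/

set_option autoImplicit false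
universe u

namespace Groth.L5.DoublePoint

open MvPowerSeries

noncomputable def ex (c a b : ℕ) : Fin 3 →₀ ℕ := Finsupp.equivFunOnFinite.symm ![c, a, b]

@[simp] theorem ex0 (c a b : ℕ) : ex c a b 0 = c := rfl
@[simp] theorem ex1 (c a b : ℕ) : ex c a b 1 = a := rfl
@[simp] theorem ex2 (c a b : ℕ) : ex c a b 2 = b := rfl

theorem ext3 {e e' : Fin 3 →₀ ℕ} (h0 : e 0 = e' 0) (h1 : e 1 = e' 1) (h2 : e 2 = e' 2) : e = e' := by
  ext i; fin_cases i <;> assumption

def Good (n m : ℕ) (e : Fin 3 →₀ ℕ) : Prop :=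
  (e 0 % 2 = 0 → 2 * m ≤ e 1 + n * (e 0 / 2) + e 2 / 2) ∧
  (e 0 % 2 = 1 → 2 * m ≤ e 1 + n * (e 0 / 2) + (e 2 + 1) / 2 + 1)

noncomputable def nf (n : ℕ) (e : Fin 3 →₀ ℕ) : Fin 3 →₀ ℕ := ex (e 0 % 2) (e 1 + n * (e 0 / 2)) (e 2)

theorem good_nf (n m : ℕ) (e : Fin 3 →₀ ℕ) : Good n m (nf n e) ↔ Good n m e := by
  have h : e 0 % 2 / 2 = 0 := by omega
  simp [Good, nf, h]

variable {n m : ℕ}

theorem good_add (hn : 3 ≤ n) {e e' : Fin 3 →₀ ℕ} (he : Good n m e) (he' : Good n 1 e') :
    Good n (m + 1) (e + e') := by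
  simp only [Good, Finsupp.add_apply] at *
  rcases Nat.mod_two_eq_zero_or_one (e 0) with h | h <;> rcases Nat.mod_two_eq_zero_or_one (e' 0) with h' | h'
  all_goals
    refine ⟨fun h'' => ?_, fun h'' => ?_⟩
  all_goals
    obtain hq | hq : (e 0 + e' 0) / 2 = e 0 / 2 + e' 0 / 2 ∨ (e 0 + e' 0) / 2 = e 0 / 2 + e' 0 / 2 + 1 := by omega
  all_goals
    have := he.1
    have := he.2
    have := he'.1
    have := he'.2
    rw [hq]
    simp only [Nat.mul_add, Nat.mul_one]
    omega

theorem good_mono (hn : 3 ≤ n) {e : Fin 3 →₀ ℕ} (he : Good n m e) (e' : Fin 3 →₀ ℕ) :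
    Good n m (e + e') := by
  simp only [Good, Finsupp.add_apply] at *
  rcases Nat.mod_two_eq_zero_or_one (e 0) with h | h <;> rcases Nat.mod_two_eq_zero_or_one (e' 0) with h' | h'
  all_goals
    refine ⟨fun h'' => ?_, fun h'' => ?_⟩
  all_goals
    obtain hq | hq : (e 0 + e' 0) / 2 = e 0 / 2 + e' 0 / 2 ∨ (e 0 + e' 0) / 2 = e 0 / 2 + e' 0 / 2 + 1 := by omega
  all_goals
    have := he.1
    have := he.2
    rw [hq]
    simp only [Nat.mul_add, Nat.mul_one]
    omega

theorem good_big (hn : 3 ≤ n) {e : Fin 3 →₀ ℕ} (he : 4 * m + 4 ≤ e 0 + e 1 + e 2) : Good n m e := by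
  have : 3 * (e 0 / 2) ≤ n * (e 0 / 2) := Nat.mul_le_mul_right _ hn
  constructor <;> intro h <;> omega

variable {k : Type u} [Field k]

abbrev R (k : Type u) [Field k] := MvPowerSeries (Fin 3) k

noncomputable def mon (e : Fin 3 →₀ ℕ) : R k := monomial e (1 : k)

theorem mon_add (e e' : Fin 3 →₀ ℕ) : (mon (e + e') : R k) = mon e * mon e' := by
  rw [mon, mon, mon, monomial_mul_monomial, mul_one]

theorem mon_ex (c a b : ℕ) : (mon (ex c a b) : R k) = X 0 ^ c * X 1 ^ a * X 2 ^ b := by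
  rw [X_pow_eq, X_pow_eq, X_pow_eq, monomial_mul_monomial, monomial_mul_monomial, mon, mul_one, mul_one]
  congr 1
  apply congrArg (fun e => monomial e)
  apply ext3 <;> simp

/-- Generators of the ideal `I`. -/
noncomputable def gens (k : Type u) [Field k] : Ideal (R k) :=
  Ideal.span {X 0 ^ 2, X 0 * X 1, X 1 ^ 2, X 0 * X 2, X 1 * X 2 ^ 2, X 2 ^ 4}

noncomputable def rel (k : Type u) [Field k] (n : ℕ) : R k := X 0 ^ 2 - X 1 ^ n

noncomputable def K (k : Type u) [Field k] (n m : ℕ) : Ideal (R k) := gens k ^ m ⊔ Ideal.span {rel k n}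

theorem y_w_mem (m : ℕ) : ∀ u v, u + v = 2 * m → (X 1 ^ u * (X 2 ^ 2) ^ v : R k) ∈ gens k ^ m := by
  induction m with
  | zero => intros; simp
  | succ m ih =>
    intro u v h
    rw [pow_succ' (gens k)]
    rcases u with _ | _ | u
    · obtain ⟨v, rfl⟩ : ∃ w, v = w + 2 := ⟨v - 2, by omega⟩
      have := Ideal.mul_mem_mul (Ideal.subset_span (by simp : (X 2 ^ 4 : R k) ∈ _) : (X 2 ^ 4 : R k) ∈ gens k) (ih 0 v (by omega))
      convert this using 1 <;> first | rfl | ring
    · obtain ⟨v, rfl⟩ : ∃ w, v = w + 1 := ⟨v - 1, by omega⟩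
      have := Ideal.mul_mem_mul (Ideal.subset_span (by simp : (X 1 * X 2 ^ 2 : R k) ∈ _) : (X 1 * X 2 ^ 2 : R k) ∈ gens k) (ih 0 v (by omega))
      convert this using 1 <;> first | rfl | ring
    · have := Ideal.mul_mem_mul (Ideal.subset_span (by simp : (X 1 ^ 2 : R k) ∈ _) : (X 1 ^ 2 : R k) ∈ gens k) (ih u v (by omega))
      convert this using 1 <;> first | rfl | ring

theorem y_t_mem {m a b : ℕ} (h : 2 * m ≤ a + b / 2) : (X 1 ^ a * X 2 ^ b : R k) ∈ gens k ^ m := by
  obtain ⟨u, a', v, b', rfl, rfl, huv⟩ : ∃ u a' v b', a = u + a' ∧ b = 2 * v + b' ∧ u + v = 2 * m :=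
    ⟨min a (2 * m), a - min a (2 * m), 2 * m - min a (2 * m), b - 2 * (2 * m - min a (2 * m)), by omega, by omega, by omega⟩
  rw [show (X 1 ^ (u + a') * X 2 ^ (2 * v + b') : R k) = (X 1 ^ a' * X 2 ^ b') * (X 1 ^ u * (X 2 ^ 2) ^ v) by ring]
  exact Ideal.mul_mem_left _ _ (y_w_mem m u v huv)

theorem mon_sub_nf_mem (e : Fin 3 →₀ ℕ) : (mon e - mon (nf n e) : R k) ∈ K k n m := by
  refine Ideal.mem_sup_right (Ideal.mem_span_singleton.2 ?_)
  have he : e = ex (2 * (e 0 / 2) + e 0 % 2) (e 1) (e 2) := by apply ext3 <;> simp [Nat.div_add_mod]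
  conv => enter [2, 1]; rw [he]
  rw [nf, mon_ex, mon_ex]
  refine Dvd.dvd.trans (sub_dvd_pow_sub_pow (X 0 ^ 2 : R k) (X 1 ^ n) (e 0 / 2)) ⟨X 0 ^ (e 0 % 2) * X 1 ^ e 1 * X 2 ^ e 2, ?_⟩
  ring

theorem mon_good_mem {e : Fin 3 →₀ ℕ} (he : Good n m e) : (mon e : R k) ∈ K k n m := by
  rw [← sub_add_cancel (mon e) (mon (nf n e) : R k)]
  refine add_mem (mon_sub_nf_mem e) (Ideal.mem_sup_left ?_)
  rw [nf, mon_ex]
  rcases Nat.mod_two_eq_zero_or_one (e 0) with h | h
  · rw [h, pow_zero, one_mul]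
    exact y_t_mem (he.1 h)
  · rw [h, pow_one]
    have hg := he.2 h
    rcases m with _ | m
    · simp
    rw [pow_succ' (gens k)]
    generalize ha : e 1 + n * (e 0 / 2) = a at hg ⊢
    rcases hb : e 2 with _ | b
    · rw [hb] at hg
      obtain ⟨a, rfl⟩ : ∃ a', a = a' + 1 := ⟨a - 1, by omega⟩
      have := Ideal.mul_mem_mul (Ideal.subset_span (by simp : (X 0 * X 1 : R k) ∈ _) : (X 0 * X 1 : R k) ∈ gens k) (y_t_mem (k := k) (m := m) (a := a) (b := 0) (by omega))
      convert this using 1 <;> first | rfl | ring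
    · rw [hb] at hg
      have := Ideal.mul_mem_mul (Ideal.subset_span (by simp : (X 0 * X 2 : R k) ∈ _) : (X 0 * X 2 : R k) ∈ gens k) (y_t_mem (k := k) (m := m) (a := a) (b := b) (by omega))
      convert this using 1 <;> first | rfl | ring

/-- Series all of whose exponents are good. -/
def S (k : Type u) [Field k] (n m : ℕ) : Set (R k) := {g | ∀ e, coeff e g ≠ 0 → Good n m e}

theorem mem_span_of_finset (G : Finset (Fin 3 →₀ ℕ)) :
    ∀ g : R k, (∀ e, coeff e g ≠ 0 → ∃ γ ∈ G, γ ≤ e) → g ∈ Ideal.span ((fun γ => (mon γ : R k)) '' G) := by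
  classical
  induction G using Finset.induction_on with
  | empty =>
    intro g hg
    have : g = 0 := MvPowerSeries.ext fun e => by
      by_contra h
      obtain ⟨γ, hγ, -⟩ := hg e (by simpa using h)
      simp at hγ
    simp [this]
  | insert γ G hγ ih =>
    intro g hg
    let h : R k := fun e => coeff (e + γ) g
    have hrest : g - mon γ * h ∈ Ideal.span ((fun γ => (mon γ : R k)) '' G) := by
      refine ih _ fun e he => ?_
      rw [map_sub, mon, coeff_monomial_mul] at he
      split_ifs at he with hle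
      · refine absurd ?_ he
        change coeff e g - 1 * coeff (e - γ + γ) g = 0
        rw [tsub_add_cancel_of_le hle, one_mul, sub_self]
      · rw [sub_zero] at he
        obtain ⟨δ, hδ, hle'⟩ := hg e he
        rcases Finset.mem_insert.1 hδ with rfl | hδ
        · exact absurd hle' hle
        · exact ⟨δ, hδ, hle'⟩
    rw [← sub_add_cancel g (mon γ * h), Finset.coe_insert, Set.image_insert_eq, Ideal.span_insert]
    exact add_mem (Ideal.mem_sup_right hrest) (Ideal.mem_sup_left (Ideal.mul_mem_right _ _ (Ideal.mem_span_singleton_self _)))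

theorem S_le (hn : 3 ≤ n) {g : R k} (hg : g ∈ S k n m) : g ∈ K k n m := by
  classical
  let B := 4 * m + 4
  let G : Finset (Fin 3 →₀ ℕ) := ((Finset.range (B + 1) ×ˢ Finset.range (B + 1) ×ˢ Finset.range (B + 1)).image
    fun p => ex p.1 p.2.1 p.2.2).filter (Good n m)
  refine (Ideal.span_le.2 ?_) (mem_span_of_finset G g fun e he => ?_)
  · rintro _ ⟨γ, hγ, rfl⟩
    exact mon_good_mem (Finset.mem_filter.1 hγ).2
  · refine ⟨ex (min (e 0) B) (min (e 1) B) (min (e 2) B), Finset.mem_filter.2 ⟨Finset.mem_image.2 ⟨⟨min (e 0) B, min (e 1) B, min (e 2) B⟩, by simp, rfl⟩, ?_⟩, fun i => ?_⟩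
    · by_cases hsmall : e 0 ≤ B ∧ e 1 ≤ B ∧ e 2 ≤ B
      · have : ex (min (e 0) B) (min (e 1) B) (min (e 2) B) = e := by
          apply ext3 <;> simp [hsmall.1, hsmall.2.1, hsmall.2.2]
        rw [this]; exact hg e he
      · exact good_big hn (by simp only [ex0, ex1, ex2]; omega)
    · fin_cases i <;> simp

theorem S_mul (hn : 3 ≤ n) {m' : ℕ} {g h : R k}
    (hg : g ∈ S k n m) (hh : ∀ e, coeff e h ≠ 0 → ∀ e', Good n m e' → Good n m' (e' + e)) :
    g * h ∈ S k n m' := by
  classical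
  intro e he
  rw [coeff_mul] at he
  obtain ⟨⟨p, q⟩, hpq, hne⟩ := Finset.exists_ne_zero_of_sum_ne_zero he
  rw [Finset.HasAntidiagonal.mem_antidiagonal] at hpq
  rw [← hpq]
  exact hh q (right_ne_zero_of_mul hne) p (hg p (left_ne_zero_of_mul hne))

/-- `S` as an ideal. -/
def SI (k : Type u) [Field k] {n : ℕ} (hn : 3 ≤ n) (m : ℕ) : Ideal (R k) where
  carrier := S k n m
  zero_mem' := fun e he => absurd (map_zero _) he
  add_mem' := fun {g h} hg hh e he => by
    by_contra hne
    rw [map_add, not_imp_comm.1 (hg e) hne, not_imp_comm.1 (hh e) hne, add_zero] at he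
    exact he rfl
  smul_mem' := fun c g hg => by
    rw [smul_eq_mul, mul_comm]
    exact S_mul hn hg fun e _ e' he' => good_mono hn he' e

theorem mon_mem_SI (hn : 3 ≤ n) {e : Fin 3 →₀ ℕ} (he : Good n m e) : (mon e : R k) ∈ SI k hn m := by
  classical
  intro d hd
  rw [mon, coeff_monomial] at hd
  split_ifs at hd with h
  · exact h ▸ he
  · exact absurd rfl hd

theorem gens_pow_le (hn : 3 ≤ n) : gens k ^ m ≤ SI k hn m := by
  induction m with
  | zero => intro g _ e _; constructor <;> intro _ <;> omega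
  | succ m ih =>
    rw [pow_succ, Ideal.mul_le]
    intro g hg h hh
    have hle : gens k ≤ SI k hn 1 := by
      refine Ideal.span_le.2 fun z hz => ?_
      simp only [Set.mem_insert_iff, Set.mem_singleton_iff] at hz
      have e1 : (X 0 ^ 2 : R k) = mon (ex 2 0 0) := by simp [mon_ex]
      have e2 : (X 0 * X 1 : R k) = mon (ex 1 1 0) := by simp [mon_ex]
      have e3 : (X 1 ^ 2 : R k) = mon (ex 0 2 0) := by simp [mon_ex]
      have e4 : (X 0 * X 2 : R k) = mon (ex 1 0 1) := by simp [mon_ex]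
      have e5 : (X 1 * X 2 ^ 2 : R k) = mon (ex 0 1 2) := by simp [mon_ex]
      have e6 : (X 2 ^ 4 : R k) = mon (ex 0 0 4) := by simp [mon_ex]
      rcases hz with rfl | rfl | rfl | rfl | rfl | rfl
      all_goals first | rw [e1] | rw [e2] | rw [e3] | rw [e4] | rw [e5] | rw [e6]
      all_goals exact mon_mem_SI hn (by constructor <;> intro h <;> simp at * <;> omega)
    exact S_mul hn (ih hg) fun e he e' he' => good_add hn he' (hle hh e he)

/-- The standard exponents outside `S`. -/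
noncomputable def D (m : ℕ) : Finset (Fin 3 →₀ ℕ) :=
  ((Finset.range (2 * m)).sigma fun a => Finset.range (2 * (2 * m - a))).image (fun p => ex 0 p.1 p.2) ∪
  ((Finset.range (2 * m - 1)).sigma fun a => Finset.range (2 * (2 * m - 1 - a) - 1)).image (fun p => ex 1 p.1 p.2)

theorem mem_D {d : Fin 3 →₀ ℕ} : d ∈ D m ↔ d 0 ≤ 1 ∧ ¬ Good n m d := by
  classical
  simp only [D, Finset.mem_union, Finset.mem_image, Finset.mem_sigma, Finset.mem_range, Sigma.exists]
  constructor
  · rintro (⟨a, b, ⟨ha, hb⟩, rfl⟩ | ⟨a, b, ⟨ha, hb⟩, rfl⟩) <;> simp [Good] <;> omega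
  · rintro ⟨h0, hg⟩
    rcases Nat.le_one_iff_eq_zero_or_eq_one.1 h0 with h | h <;> simp [Good, h] at hg
    · exact Or.inl ⟨d 1, d 2, ⟨by omega, by omega⟩, by apply ext3 <;> simp [h]⟩
    · exact Or.inr ⟨d 1, d 2, ⟨by omega, by omega⟩, by apply ext3 <;> simp [h]⟩

/-- The coordinates on the quotient. -/
noncomputable def psi (k : Type u) [Field k] (n m : ℕ) : R k →ₗ[k] (↥(D m) → k) :=
  LinearMap.pi fun d => ∑ i ∈ (Finset.range (d.1 1 + 1)).filter (fun i => n * i ≤ d.1 1),
    coeff (ex (2 * i + d.1 0) (d.1 1 - n * i) (d.1 2))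

theorem psi_apply (g : R k) (d : ↥(D m)) : psi k n m g d =
    ∑ i ∈ (Finset.range (d.1 1 + 1)).filter (fun i => n * i ≤ d.1 1),
      coeff (ex (2 * i + d.1 0) (d.1 1 - n * i) (d.1 2)) g := by
  simp [psi]

theorem nf_ex {c a b i : ℕ} (hc : c ≤ 1) (hi : n * i ≤ a) : nf n (ex (2 * i + c) (a - n * i) b) = ex c a b := by
  have h1 : (2 * i + c) % 2 = c := by omega
  have h2 : (2 * i + c) / 2 = i := by omega
  simp [nf, h1, h2, Nat.sub_add_cancel hi]

theorem psi_S (g : R k) (hg : g ∈ S k n m) : psi k n m g = 0 := by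
  funext d
  rw [psi_apply]
  refine Finset.sum_eq_zero fun i hi => ?_
  by_contra h
  obtain ⟨h0, hgd⟩ := (mem_D (n := n)).1 d.2
  have := (good_nf n m _).2 (hg _ h)
  rw [nf_ex h0 (Finset.mem_filter.1 hi).2] at this
  exact hgd (by convert this using 1; apply ext3 <;> simp)

theorem psi_rel (hn : 3 ≤ n) (g : R k) : psi k n m (rel k n * g) = 0 := by
  classical
  funext d
  obtain ⟨h0, -⟩ := (mem_D (n := n)).1 d.2
  generalize hc : d.1 0 = c at h0
  generalize ha : d.1 1 = a
  generalize hb : d.1 2 = b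
  rw [psi_apply, hc, ha, hb, Pi.zero_apply]
  have hx : ∀ e, coeff e (rel k n * g) = (if 2 ≤ e 0 then coeff (ex (e 0 - 2) (e 1) (e 2)) g else 0) -
      (if n ≤ e 1 then coeff (ex (e 0) (e 1 - n) (e 2)) g else 0) := by
    intro e
    rw [rel, sub_mul, map_sub, X_pow_eq, X_pow_eq, coeff_monomial_mul, coeff_monomial_mul, one_mul, one_mul]
    congr 1 <;> (congr 1; · rw [Finsupp.single_le_iff]) <;>
      (apply congrArg (fun e => coeff e g); apply ext3 <;> simp)
  simp only [hx, ex0, ex1, ex2, Finset.sum_sub_distrib, ← Finset.sum_filter, Finset.filter_filter]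
  rw [sub_eq_zero]
  refine Finset.sum_bij' (fun i _ => i - 1) (fun i _ => i + 1) ?_ ?_ ?_ ?_ ?_
  · intro i hi
    simp only [Finset.mem_filter, Finset.mem_range] at hi ⊢
    obtain ⟨i, rfl⟩ : ∃ j, i = j + 1 := ⟨i - 1, by omega⟩
    rw [Nat.mul_add, Nat.mul_one] at hi
    simp only [Nat.add_sub_cancel]; omega
  · intro i hi
    simp only [Finset.mem_filter, Finset.mem_range] at hi ⊢
    have : i ≤ n * i := Nat.le_mul_of_pos_left i (by omega)
    rw [Nat.mul_add, Nat.mul_one]; omega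
  · intro i hi; simp only [Finset.mem_filter] at hi; omega
  · intro i _; rfl
  · intro i hi
    simp only [Finset.mem_filter] at hi
    obtain ⟨i, rfl⟩ : ∃ j, i = j + 1 := ⟨i - 1, by omega⟩
    simp only [Nat.add_sub_cancel, Nat.mul_add, Nat.mul_one]
    rw [show 2 * i + 2 + c - 2 = 2 * i + c by omega, show a - (n * i + n) = a - n * i - n by omega]

theorem psi_mon (hn : 3 ≤ n) (e : Fin 3 →₀ ℕ) (d : ↥(D m)) : psi k n m (mon e) d = if nf n e = d.1 then 1 else 0 := by
  classical
  rw [psi_apply]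
  simp only [mon, coeff_monomial]
  obtain ⟨h0, -⟩ := (mem_D (n := n)).1 d.2
  split_ifs with h
  · have hd0 : d.1 0 = e 0 % 2 := by rw [← h]; simp [nf]
    have hd1 : d.1 1 = e 1 + n * (e 0 / 2) := by rw [← h]; simp [nf]
    have hd2 : d.1 2 = e 2 := by rw [← h]; simp [nf]
    have hle : e 0 / 2 ≤ n * (e 0 / 2) := Nat.le_mul_of_pos_left _ (by omega)
    rw [Finset.sum_eq_single (e 0 / 2)]
    · rw [if_pos]; apply ext3 <;> simp <;> omega
    · intro i _ hi
      rw [if_neg]
      intro he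
      have := congrArg (fun f : Fin 3 →₀ ℕ => f 0) he
      simp at this; omega
    · intro hni
      exact absurd (Finset.mem_filter.2 ⟨Finset.mem_range.2 (by omega), by omega⟩) hni
  · refine Finset.sum_eq_zero fun i hi => if_neg fun he => h ?_
    rw [← he, nf_ex h0 (Finset.mem_filter.1 hi).2]
    apply ext3 <;> simp

theorem ker_psi (hn : 3 ≤ n) : LinearMap.ker (psi k n m) = (K k n m).restrictScalars k := by
  classical
  refine le_antisymm (fun g hg => ?_) ?_
  · let N : R k := ∑ d ∈ ((Finset.range (4 * m + 4) ×ˢ Finset.range (4 * m + 4) ×ˢ Finset.range (4 * m + 4)).image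
      fun p => ex p.1 p.2.1 p.2.2).filter (fun e => ¬ Good n m e), coeff d g • (mon d : R k)
    have hgN : g - N ∈ S k n m := by
      intro e he
      by_contra hne
      apply he
      rw [map_sub, map_sum, Finset.sum_eq_single e]
      · simp [mon]
      · intro d _ hd; simp [mon, coeff_monomial_ne hd.symm]
      · intro hni
        refine hni (Finset.mem_filter.2 ⟨Finset.mem_image.2 ⟨(e 0, e 1, e 2), ?_, by apply ext3 <;> simp⟩, hne⟩) |>.elim
        simp only [Finset.mem_product, Finset.mem_range]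
        by_contra hbig
        exact hne (good_big hn (by omega))
    show g ∈ K k n m
    rw [← sub_add_cancel g N]
    refine add_mem (S_le hn hgN) ?_
    let L : (↥(D m) → k) →ₗ[k] R k ⧸ (K k n m) := Fintype.linearCombination k (fun d => Ideal.Quotient.mk _ (mon d.1))
    have hL : ∀ e, ¬ Good n m e → Ideal.Quotient.mk (K k n m) (mon e : R k) = L (psi k n m (mon e)) := by
      intro e he
      have hmem : nf n e ∈ D m := (mem_D (n := n)).2 ⟨by simp [nf]; omega, fun h => he ((good_nf n m e).1 h)⟩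
      simp only [L, Fintype.linearCombination_apply]
      rw [Finset.sum_eq_single ⟨nf n e, hmem⟩]
      · rw [psi_mon hn, if_pos rfl, one_smul, Ideal.Quotient.eq]
        exact mon_sub_nf_mem e
      · intro d _ hd; rw [psi_mon hn, if_neg fun h => hd (Subtype.ext h.symm), zero_smul]
      · simp
    have hN : Ideal.Quotient.mk (K k n m) N = L (psi k n m N) := by
      simp only [N, map_sum, map_smul]
      refine Finset.sum_congr rfl fun d hd => ?_
      rw [← Ideal.Quotient.mkₐ_eq_mk k, map_smul, Ideal.Quotient.mkₐ_eq_mk, hL d (Finset.mem_filter.1 hd).2]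
    have h0 : psi k n m N = 0 := by
      have := psi_S (g - N) hgN
      rw [map_sub, LinearMap.mem_ker.1 hg, zero_sub, neg_eq_zero] at this
      exact this
    rw [h0, map_zero] at hN
    exact Ideal.Quotient.eq_zero_iff_mem.1 hN
  · intro g hg
    obtain ⟨p, hp, q, hq, rfl⟩ := Submodule.mem_sup.1 (show g ∈ gens k ^ m ⊔ Ideal.span {rel k n} from hg)
    obtain ⟨c, rfl⟩ := Ideal.mem_span_singleton.1 hq
    rw [LinearMap.mem_ker, map_add, psi_rel hn, add_zero, psi_S p (gens_pow_le hn hp)]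

theorem psi_surjective (hn : 3 ≤ n) : Function.Surjective (psi k n m) := by
  classical
  intro w
  refine ⟨∑ d : ↥(D m), w d • mon d.1, funext fun d => ?_⟩
  rw [map_sum, Finset.sum_apply, Finset.sum_eq_single d]
  · rw [map_smul, Pi.smul_apply, psi_mon hn, if_pos, smul_eq_mul, mul_one]
    have h0 := ((mem_D (n := n)).1 d.2).1
    have h1 : d.1 0 % 2 = d.1 0 := by omega
    have h2 : d.1 0 / 2 = 0 := by omega
    simp [nf, h1, h2]; apply ext3 <;> simp
  · intro b _ hb
    rw [map_smul, Pi.smul_apply, psi_mon hn, if_neg, smul_zero]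
    intro h
    apply hb
    have h0 := ((mem_D (n := n)).1 b.2).1
    have h1 : b.1 0 % 2 = b.1 0 := by omega
    have h2 : b.1 0 / 2 = 0 := by omega
    refine Subtype.ext ?_
    rw [← h]; simp [nf, h1, h2]; apply ext3 <;> simp
  · simp

theorem sum_two_mul (N : ℕ) : ∑ a ∈ Finset.range N, 2 * (N - a) = N * (N + 1) := by
  induction N with
  | zero => rfl
  | succ N ih =>
    rw [Finset.sum_range_succ']
    simp only [Nat.add_sub_add_right, ih, Nat.sub_zero]; ring

theorem sum_odd (N : ℕ) : ∑ a ∈ Finset.range N, (2 * (N - a) - 1) = N * N := by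
  induction N with
  | zero => rfl
  | succ N ih =>
    rw [Finset.sum_range_succ']
    simp only [Nat.add_sub_add_right, ih, Nat.sub_zero]
    have h : 2 * (N + 1) - 1 = 2 * N + 1 := by omega
    rw [h]; ring

theorem card_D (m : ℕ) : (D m).card = 2 * m * (2 * m + 1) + (2 * m - 1) * (2 * m - 1) := by
  classical
  have hinj : ∀ c, Function.Injective (fun p : (_ : ℕ) × ℕ => ex c p.1 p.2) := by
    intro c p q h
    obtain ⟨a, b⟩ := p; obtain ⟨a', b'⟩ := q
    have h1 : ex c a b 1 = ex c a' b' 1 := by rw [show ex c a b = ex c a' b' from h]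
    have h2 : ex c a b 2 = ex c a' b' 2 := by rw [show ex c a b = ex c a' b' from h]
    simp at h1 h2
    rw [h1, h2]
  rw [D, Finset.card_union_of_disjoint, Finset.card_image_of_injective _ (hinj 0), Finset.card_image_of_injective _ (hinj 1),
    Finset.card_sigma, Finset.card_sigma]
  · simp only [Finset.card_range, sum_two_mul, sum_odd]
  · rw [Finset.disjoint_left]
    intro d hd hd'
    simp only [Finset.mem_image] at hd hd'
    obtain ⟨p, -, rfl⟩ := hd
    obtain ⟨q, -, h⟩ := hd'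
    simpa using congrArg (fun f : Fin 3 →₀ ℕ => f 0) h

/-- The colength of `I ^ m`. -/
theorem length_quot (hn : 3 ≤ n) (I : Ideal (R k ⧸ Ideal.span {rel k n}))
    (hI : I = (gens k).map (Ideal.Quotient.mk _)) (m : ℕ) :
    Module.length (R k ⧸ Ideal.span {rel k n}) ((R k ⧸ Ideal.span {rel k n}) ⧸ I ^ m) =
      ((D m).card : ℕ∞) := by
  let cc : R k →ₐ[k] k := { constantCoeff with commutes' := fun r => constantCoeff_C r }
  let ε : (R k ⧸ Ideal.span {rel k n}) →ₐ[k] k := Ideal.Quotient.liftₐ _ cc fun a ha => by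
    obtain ⟨c, rfl⟩ := Ideal.mem_span_singleton.1 ha
    show constantCoeff (rel k n * c) = 0
    simp [rel, zero_pow (by omega : n ≠ 0)]
  have hε : ∀ a, ε a ≠ 0 → IsUnit a := by
    intro a ha
    obtain ⟨a, rfl⟩ := Ideal.Quotient.mk_surjective a
    exact (MvPowerSeries.isUnit_iff_constantCoeff.2 (isUnit_iff_ne_zero.2 ha)).map _
  rw [Groth.L21.ExtLattice.length_eq_length_field ε hε]
  let φ : R k →ₐ[k] (R k ⧸ Ideal.span {rel k n}) ⧸ I ^ m :=
    (Ideal.Quotient.mkₐ k (I ^ m)).comp (Ideal.Quotient.mkₐ k (Ideal.span {rel k n}))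
  have hφ : Function.Surjective φ := (Ideal.Quotient.mk_surjective).comp Ideal.Quotient.mk_surjective
  have hker : LinearMap.ker φ.toLinearMap = LinearMap.ker (psi k n m) := by
    rw [ker_psi hn]
    ext g
    show Ideal.Quotient.mk (I ^ m) (Ideal.Quotient.mk _ g) = 0 ↔ g ∈ K k n m
    rw [Ideal.Quotient.eq_zero_iff_mem, hI, ← Ideal.map_pow, ← Ideal.mem_comap,
      Ideal.comap_map_of_surjective _ Ideal.Quotient.mk_surjective, ← RingHom.ker_eq_comap_bot, Ideal.mk_ker]
    rfl
  let e := (φ.toLinearMap.quotKerEquivOfSurjective hφ).symm.trans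
    ((Submodule.quotEquivOfEq _ _ hker).trans ((psi k n m).quotKerEquivOfSurjective (psi_surjective hn)))
  rw [e.length_eq, Module.length_eq_finrank, Module.finrank_fintype_fun_eq_card, Fintype.card_coe]

end Groth.L5.DoublePoint
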